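import Groth.Agent.Lib.LGShift8.Tower
import Groth.Agent.Lib.Adapted8.KanQ
import Groth.Agent.Lib.ClassRes.Dual
import Mathlib.Algebra.Homology.DerivedCategory.ShortExact
import Mathlib.CategoryTheory.Triangulated.Pretriangulated

/-!
The left derived functor of `RⁿF` as the right derived functor of `F` precomposed with a shift.
-/

set_option autoImplicit false
set_option backward.isDefEq.respectTransparency false

universe w w' v u v' u'

open CategoryTheory CategoryTheory.Limits Pretriangulated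
open DerivedCategory (Q)

namespace Groth.Agent.LGShift8

variable {A : Type u} [Category.{v} A] [Abelian A] [EnoughInjectives A] [HasDerivedCategory.{w} A]

theorem isZero_Q_inj (K : CochainComplex A ℤ) : IsZero ((Q : CochainComplex A ℤ ⥤ DerivedCategory A).obj (inj K)) := by
  rw [IsZero.iff_id_eq_zero, ← (Q : CochainComplex A ℤ ⥤ DerivedCategory A).map_id,
    ← (Q : CochainComplex A ℤ ⥤ DerivedCategory A).map_zero]
  refine (DerivedCategory.quotientCompQhIso A).hom.naturality (𝟙 (inj K)) |> fun _ => ?_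
  rw [← cancel_epi ((DerivedCategory.quotientCompQhIso A).hom.app (inj K)),
    ← (DerivedCategory.quotientCompQhIso A).hom.naturality, ← (DerivedCategory.quotientCompQhIso A).hom.naturality,
    Functor.comp_map, Functor.comp_map, HomotopyCategory.eq_of_homotopy _ _ (contr K)]

noncomputable def δiso (K : CochainComplex A ℤ) :
    Q.obj (nxt K) ≅ ((Q : CochainComplex A ℤ ⥤ DerivedCategory A).obj K)⟦(1 : ℤ)⟧ :=
  haveI : IsIso (DerivedCategory.triangleOfSESδ (ses_shortExact K)) :=
    (Triangle.isZero₂_iff_isIso₃ _ (DerivedCategory.triangleOfSES_distinguished (ses_shortExact K))).1 (isZero_Q_inj K)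
  asIso (DerivedCategory.triangleOfSESδ (ses_shortExact K))

noncomputable def θ : ∀ (j : ℕ) (K : CochainComplex A ℤ),
    (Q : CochainComplex A ℤ ⥤ DerivedCategory A).obj (nxt^[j] K) ≅ (Q.obj K)⟦(j : ℤ)⟧
  | 0, K => ((shiftFunctorZero' (DerivedCategory A) ((0 : ℕ) : ℤ) (by simp)).app (Q.obj K)).symm
  | j + 1, K => θ j (nxt K) ≪≫ (shiftFunctor (DerivedCategory A) (j : ℤ)).mapIso (δiso K) ≪≫
      ((shiftFunctorAdd' (DerivedCategory A) (1 : ℤ) (j : ℤ) ((j + 1 : ℕ) : ℤ) (by omega)).app (Q.obj K)).symm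

variable {B : Type u'} [Category.{v'} B] [Abelian B] (F : A ⥤ B) [F.Additive]

theorem exists_nat : ∀ (j : ℕ) {K K' : CochainComplex A ℤ} (f : K ⟶ K'), ∃ g : nxt^[j] K ⟶ nxt^[j] K',
    (Q : CochainComplex A ℤ ⥤ DerivedCategory A).map g ≫ (θ j K').hom = (θ j K).hom ≫ (Q.map f)⟦(j : ℤ)⟧' ∧
      (R F 0).map g ≫ q F j K' = q F j K ≫ (R F j).map f
  | 0, K, K', f => ⟨f, ((shiftFunctorZero' (DerivedCategory A) ((0 : ℕ) : ℤ) (by simp)).inv.naturality (Q.map f)),
      (Category.comp_id _).trans (Category.id_comp _).symm⟩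
  | j + 1, K, K', f => by
    obtain ⟨g₀, rfl⟩ := exists_map f
    obtain ⟨g, h₁, h₂⟩ := exists_nat j g₀.τ₃
    refine ⟨g, ?_, ?_⟩
    · have hd : (δiso K).hom ≫ (Q.map g₀.τ₁)⟦(1 : ℤ)⟧' = Q.map g₀.τ₃ ≫ (δiso K').hom :=
        DerivedCategory.triangleOfSESδ_naturality (ses_shortExact K) (ses_shortExact K') g₀
      show Q.map g ≫ (θ j (nxt K')).hom ≫ (δiso K').hom⟦(j : ℤ)⟧' ≫ _ =
        ((θ j (nxt K)).hom ≫ (δiso K).hom⟦(j : ℤ)⟧' ≫ _) ≫ _
      rw [reassoc_of% h₁, ← Functor.map_comp_assoc, ← hd, Functor.map_comp, Category.assoc, Category.assoc,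
        Category.assoc]
      congr 2
      exact (shiftFunctorAdd' (DerivedCategory A) (1 : ℤ) (j : ℤ) ((j + 1 : ℕ) : ℤ) (by omega)).inv.naturality (Q.map g₀.τ₁)
    · show (R F 0).map g ≫ q F j (nxt K') ≫ dl F j K' = (q F j (nxt K) ≫ dl F j K) ≫ _
      rw [reassoc_of% h₂, dl_natural, Category.assoc]

variable [PreservesFiniteLimits F]

noncomputable def ν : F.mapHomologicalComplex (ComplexShape.up ℤ) ≅ R F 0 :=
  NatIso.mapHomologicalComplex F.rightDerivedZeroIsoSelf.symm _

/-- The shifted comparison from `F` of the last stage to `RⁿF`. -/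
noncomputable def p (n : ℕ) (K : CochainComplex A ℤ) :
    (F.mapHomologicalComplex (ComplexShape.up ℤ)).obj (nxt^[n] K) ⟶ (R F n).obj K :=
  (ν F).hom.app _ ≫ q F n K

theorem quasiIso_p (n : ℕ) (K : CochainComplex A ℤ)
    (hK : ∀ (m : ℤ) (i : ℕ), i ≠ n → IsZero ((F.rightDerived i).obj (K.X m))) : QuasiIso (p F n K) := by
  cases n with
  | zero => exact inferInstanceAs (QuasiIso ((ν F).hom.app K ≫ 𝟙 _))
  | succ j =>
    haveI := quasiIso_q_succ F j K
      (fun i => ShortComplex.exact_of_isZero_X₂ _ (hK i 0 (by omega))) (fun m i _ => hK m i)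
    exact inferInstanceAs (QuasiIso ((ν F).hom.app _ ≫ q F (j + 1) K))

variable (n : ℕ) (hdim : ∀ (X : A) (i : ℕ), n < i → IsZero ((F.rightDerived i).obj X))
  [HasDerivedCategory.{w'} B] (RF : DerivedCategory A ⥤ DerivedCategory B)
  (β : F.mapHomologicalComplex (ComplexShape.up ℤ) ⋙ Q ⟶ Q ⋙ RF)
  (hβ : ∀ L : CochainComplex A ℤ, (∀ m, RFPlus.IsAcyclicObj F (L.X m)) → IsIso (β.app L))

include hdim hβ in
theorem isIso_β_iter (K : CochainComplex A ℤ) : IsIso (β.app (nxt^[n] K)) :=
  hβ _ fun m i hi => acyclicObj_iter F n K (fun m i hi => hdim _ i hi) m i hi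

/-- The counit. -/
noncomputable def counit : Q ⋙ (shiftFunctor (DerivedCategory A) (n : ℤ) ⋙ RF) ⟶
    (R F n) ⋙ Q where
  app K := haveI := isIso_β_iter F n hdim RF β hβ K
    RF.map (θ n K).inv ≫ CategoryTheory.inv (β.app (nxt^[n] K)) ≫ Q.map (p F n K)
  naturality K K' f := by
    haveI := isIso_β_iter F n hdim RF β hβ K
    haveI := isIso_β_iter F n hdim RF β hβ K'
    obtain ⟨g, h₁, h₂⟩ := exists_nat F n f
    have h₃ : (Q.map f)⟦(n : ℤ)⟧' ≫ (θ n K').inv = (θ n K).inv ≫ Q.map g := by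
      rw [Iso.comp_inv_eq, Category.assoc, h₁, Iso.inv_hom_id_assoc]
    have h₄ : RF.map (Q.map g) ≫ CategoryTheory.inv (β.app (nxt^[n] K')) =
        CategoryTheory.inv (β.app (nxt^[n] K)) ≫ Q.map ((F.mapHomologicalComplex _).map g) := by
      rw [IsIso.comp_inv_eq, Category.assoc, IsIso.eq_inv_comp]
      exact (β.naturality g).symm
    have h₅ : (F.mapHomologicalComplex _).map g ≫ p F n K' = p F n K ≫ (R F n).map f := by
      have := (ν F).hom.naturality g
      simp only [p, Category.assoc]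
      rw [reassoc_of% this, h₂]
    show RF.map ((Q.map f)⟦(n : ℤ)⟧') ≫ RF.map (θ n K').inv ≫ _ ≫ _ = (RF.map (θ n K).inv ≫ _ ≫ _) ≫ Q.map ((R F n).map f)
    rw [← RF.map_comp_assoc, h₃, RF.map_comp, Category.assoc, Category.assoc, Category.assoc, reassoc_of% h₄,
      ← Q.map_comp, ← Q.map_comp, h₅]

theorem isIso_counit_app (K : CochainComplex A ℤ)
    (hK : ∀ (m : ℤ) (i : ℕ), i ≠ n → IsZero ((F.rightDerived i).obj (K.X m))) :
    IsIso ((counit F n hdim RF β hβ).app K) := by
  haveI := isIso_β_iter F n hdim RF β hβ K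
  haveI : IsIso ((Q : CochainComplex B ℤ ⥤ DerivedCategory B).map (p F n K)) := by
    rw [DerivedCategory.isIso_Q_map_iff_quasiIso]; exact quasiIso_p F n K hK
  exact inferInstanceAs (IsIso (RF.map (θ n K).inv ≫ CategoryTheory.inv (β.app (nxt^[n] K)) ≫ Q.map (p F n K)))

omit [HasDerivedCategory.{w} A] [HasDerivedCategory.{w'} B] in
include hdim in
/-- Left resolutions by objects with `RⁱF = 0` for `i ≠ n`. -/
theorem exists_leftRes
    (hP : ∀ X : A, ∃ (Y : A) (r : Y ⟶ X), Epi r ∧ ∀ i : ℕ, i ≠ n → IsZero ((F.rightDerived i).obj Y))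
    (K : CochainComplex A ℤ) :
    ∃ (L : CochainComplex A ℤ) (s : L ⟶ K), QuasiIso s ∧
      ∀ (m : ℤ) (i : ℕ), i ≠ n → IsZero ((F.rightDerived i).obj (L.X m)) := by
  let P : Aᵒᵖ → Prop := fun X => ∀ i : ℕ, i ≠ n → IsZero ((F.rightDerived i).obj X.unop)
  have key : ∀ S : ShortComplex A, S.ShortExact → ∀ i : ℕ, IsZero ((F.rightDerived i).obj S.X₂) →
      (∀ k, k + 1 = i → IsZero ((F.rightDerived k).obj S.X₃)) → IsZero ((F.rightDerived i).obj S.X₁) := by
    intro S hS i h2 h3
    cases i with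
    | zero =>
      haveI := hS.mono_f
      haveI : Mono ((F.rightDerived 0).map S.f) := by
        rw [← NatIso.naturality_2 F.rightDerivedZeroIsoSelf S.f]; infer_instance
      exact IsZero.of_mono ((F.rightDerived 0).map S.f) h2
    | succ k => exact ((les F).exact₁ S hS k (k + 1) rfl).isZero_of_both_zeros ((h3 k rfl).eq_of_src _ _) (h2.eq_of_tgt _ _)
  have hcogen : DimRes8.Cogen P := by
    refine ⟨fun e h i hi => (h i hi).of_iso ((F.rightDerived i).mapIso e.unop), fun X => ?_, fun S hS h1 => ⟨fun h2 => ?_, fun h3 i hi => ?_⟩⟩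
    · obtain ⟨Y, r, hr, hY⟩ := hP X.unop
      exact ⟨Opposite.op Y, r.op, hY, inferInstance⟩
    · intro i hi
      rcases lt_trichotomy n i with h | h | h
      · exact hdim _ _ h
      · exact absurd h.symm hi
      · exact key S.unop hS.unop i (h2 i hi) fun k hk => h1 k (by omega)
    · exact ((les F).exact₂ S.unop hS.unop i).isZero_of_both_zeros ((h3 i hi).eq_of_src _ _) ((h1 i hi).eq_of_tgt _ _)
  have hdimP : ∀ (k : ℕ) (X : Aᵒᵖ), (∀ j, j + k < n → IsZero ((F.rightDerived j).obj X.unop)) → DimRes8.CDim P k X := by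
    intro k
    induction k with
    | zero =>
      intro X h i hi
      rcases lt_trichotomy n i with h' | h' | h'
      · exact hdim _ _ h'
      · exact absurd h'.symm hi
      · exact h i h'
    | succ k ih =>
      intro X h Y ι _ hY
      refine ih _ fun j hj => key _ ({ exact := ShortComplex.exact_cokernel ι } : (ShortComplex.mk ι (cokernel.π ι) (cokernel.condition ι)).ShortExact).unop j (hY j (by omega)) fun l hl => h l (by omega)
  obtain ⟨L, f, hf, hL⟩ := DimRes8.exists_resolution (DimRes8.grading hcogen) (ClassRes.dual K) fun m =>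
    ⟨m - n, fun j hj => ⟨n, hdimP n _ fun i hi => by omega, by omega⟩⟩
  haveI := hf
  haveI := ClassRes.quasiIso_undualMap f
  exact ⟨ClassRes.undual L, ClassRes.undualMap f ≫ (ClassRes.undualDualIso K).hom, inferInstance, fun m => hL (-m)⟩

end Groth.Agent.LGShift8
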