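import Mathlib.Algebra.Homology.Factorizations.CM5b
import Mathlib.Algebra.Homology.HomologicalComplexAbelian
import Groth.Agent.Lib.RDerLES.Horseshoe
import Groth.Agent.Lib.Adapted8.Acyclic

/-!
Embedding a complex into a contractible complex of injectives, iterated; the induced dimension shift map
from `R⁰F` of the last stage to `RʲF` of the complex.
-/

set_option autoImplicit false
set_option backward.isDefEq.respectTransparency false

universe v u v' u'

open CategoryTheory CategoryTheory.Limits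

namespace Groth.Agent.LGShift8

variable {A : Type u} [Category.{v} A] [Abelian A]

theorem exists_extend {K L M : CochainComplex A ℤ} (i : K ⟶ L) [∀ n, Mono (i.f n)]
    (hM : ∀ n, Injective (M.X n)) (s : Homotopy (𝟙 M) 0) (g : K ⟶ M) : ∃ φ : L ⟶ M, i ≫ φ = g := by
  let h : ∀ n, L.X n ⟶ M.X n := fun n => haveI := hM n; Injective.factorThru (g.f n) (i.f n)
  have hh : ∀ n, i.f n ≫ h n = g.f n := fun n => haveI := hM n; Injective.comp_factorThru _ _
  refine ⟨Homotopy.nullHomotopicMap fun a b => h a ≫ s.hom a b, ?_⟩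
  have hs : Homotopy.nullHomotopicMap s.hom = 𝟙 M := by
    ext n
    simpa [Homotopy.nullHomotopicMap] using (s.comm n).symm
  conv_rhs => rw [← Category.comp_id g, ← hs, Homotopy.comp_nullHomotopicMap]
  rw [Homotopy.comp_nullHomotopicMap]
  congr
  funext a b
  rw [← Category.assoc, hh]

variable [EnoughInjectives A]

/-- A contractible complex of injectives containing `K`. -/
noncomputable abbrev inj (K : CochainComplex A ℤ) : CochainComplex A ℤ :=
  CochainComplex.mappingCone (𝟙 (CochainComplex.cm5b.I K))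

noncomputable def ι (K : CochainComplex A ℤ) : K ⟶ inj K := CochainComplex.cm5b.i (𝟙 K) ≫ biprod.fst

instance (K : CochainComplex A ℤ) (n : ℤ) : Mono ((ι K).f n) := by
  have h : (ι K).f n ≫ (CochainComplex.mappingCone.snd (𝟙 (CochainComplex.cm5b.I K))).v n n (add_zero n) =
      Injective.ι (K.X n) := by
    rw [ι, HomologicalComplex.comp_f, Category.assoc, CochainComplex.cm5b.i_f_comp]
  exact mono_of_mono_fac h

instance (K : CochainComplex A ℤ) : Mono (ι K) := HomologicalComplex.mono_of_mono_f _ inferInstance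

noncomputable def contr (K : CochainComplex A ℤ) : Homotopy (𝟙 (inj K)) 0 :=
  CochainComplex.mappingCone.liftHomotopy _ _ _ (CochainComplex.mappingCone.snd _) 0 (by simp) (by simp)

noncomputable abbrev nxt (K : CochainComplex A ℤ) : CochainComplex A ℤ := cokernel (ι K)

noncomputable abbrev ses (K : CochainComplex A ℤ) : ShortComplex (CochainComplex A ℤ) :=
  ShortComplex.mk (ι K) (cokernel.π (ι K)) (cokernel.condition _)

theorem ses_shortExact (K : CochainComplex A ℤ) : (ses K).ShortExact :=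
  { exact := ShortComplex.exact_cokernel _ }

theorem exists_map {K K' : CochainComplex A ℤ} (f : K ⟶ K') : ∃ g : ses K ⟶ ses K', g.τ₁ = f := by
  obtain ⟨φ, hφ⟩ := exists_extend (ι K) (fun n => inferInstance) (contr K') (f ≫ ι K')
  exact ⟨ShortComplex.homMk f φ (cokernel.map (ι K) (ι K') f φ hφ) hφ.symm (cokernel.π_desc _ _ _).symm, rfl⟩

theorem ses_eval_shortExact (K : CochainComplex A ℤ) (m : ℤ) :
    ((ses K).map (HomologicalComplex.eval A (ComplexShape.up ℤ) m)).ShortExact :=
  (ses_shortExact K).map_of_exact _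

variable {B : Type u'} [Category.{v'} B] [Abelian B] (F : A ⥤ B) [F.Additive]

noncomputable def les : RDer.DerivedLES F := (RDerLES.nonempty_derivedLES F).some

/-- `RʲF` termwise. -/
noncomputable abbrev R (j : ℕ) : CochainComplex A ℤ ⥤ CochainComplex B ℤ :=
  (F.rightDerived j).mapHomologicalComplex (ComplexShape.up ℤ)

noncomputable def dl (j : ℕ) (K : CochainComplex A ℤ) : (R F j).obj (nxt K) ⟶ (R F (j + 1)).obj K where
  f m := (les F).δ _ (ses_eval_shortExact K m) j (j + 1) rfl
  comm' a b _ := ((les F).δ_natural (ses_eval_shortExact K a) (ses_eval_shortExact K b)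
    (ShortComplex.homMk (K.d a b) ((inj K).d a b) ((nxt K).d a b) ((ι K).comm a b).symm
      ((cokernel.π (ι K)).comm a b).symm) j (j + 1) rfl).symm

theorem dl_natural (j : ℕ) {K K' : CochainComplex A ℤ} (g : ses K ⟶ ses K') :
    (R F j).map g.τ₃ ≫ dl F j K' = dl F j K ≫ (R F (j + 1)).map g.τ₁ := by
  ext m
  exact (les F).δ_natural (ses_eval_shortExact K m) (ses_eval_shortExact K' m)
    ((HomologicalComplex.eval A (ComplexShape.up ℤ) m).mapShortComplex.map g) j (j + 1) rfl

/-- The iterated dimension shift map. -/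
noncomputable def q : ∀ (j : ℕ) (K : CochainComplex A ℤ), (R F 0).obj (nxt^[j] K) ⟶ (R F j).obj K
  | 0, K => 𝟙 _
  | j + 1, K => q j (nxt K) ≫ dl F j K

theorem acyclic_inj (K : CochainComplex A ℤ) (G : A ⥤ B) [G.Additive] :
    ((G.mapHomologicalComplex (ComplexShape.up ℤ)).obj (inj K)).Acyclic := fun m => by
  rw [HomologicalComplex.exactAt_iff_isZero_homology, IsZero.iff_id_eq_zero, ← HomologicalComplex.homologyMap_id,
    ← (G.mapHomologicalComplex (ComplexShape.up ℤ)).map_id, (G.mapHomotopy (contr K)).homologyMap_eq m,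
    Functor.map_zero, HomologicalComplex.homologyMap_zero]

theorem quasiIso_of_acyclic {X₁ X₂ X₃ X₄ : CochainComplex B ℤ} (u : X₁ ⟶ X₂) (v : X₂ ⟶ X₃) (w : X₃ ⟶ X₄)
    [Mono u] [Epi w] (huv : u ≫ v = 0) (hvw : v ≫ w = 0) (h₁ : (ShortComplex.mk u v huv).Exact)
    (h₂ : (ShortComplex.mk v w hvw).Exact) (ha₁ : X₁.Acyclic) (ha₂ : X₂.Acyclic) : QuasiIso w := by
  let r : X₂ ⟶ kernel w := kernel.lift w v hvw
  haveI : Epi r := (ShortComplex.mk v w hvw).exact_iff_epi_kernel_lift.1 h₂
  have hur : u ≫ r = 0 := by rw [← cancel_mono (kernel.ι w)]; simpa [r] using huv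
  let φ : ShortComplex.mk u r hur ⟶ ShortComplex.mk u v huv :=
    ShortComplex.homMk (𝟙 _) (𝟙 _) (kernel.ι w) (by simp) (by simp [r])
  haveI : Epi φ.τ₁ := inferInstanceAs (Epi (𝟙 X₁))
  haveI : IsIso φ.τ₂ := inferInstanceAs (IsIso (𝟙 X₂))
  haveI : Mono φ.τ₃ := inferInstanceAs (Mono (kernel.ι w))
  have hS : (ShortComplex.mk u r hur).ShortExact :=
    { exact := (ShortComplex.exact_iff_of_epi_of_isIso_of_mono φ).2 h₁ }
  have hk : ∀ i, IsZero ((kernel w).homology i) := fun i =>
    (hS.homology_exact₃ i (i + 1) rfl).isZero_of_both_zeros (((X₂.exactAt_iff_isZero_homology i).1 (ha₂ i)).eq_of_src _ _)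
      (((X₁.exactAt_iff_isZero_homology _).1 (ha₁ _)).eq_of_tgt _ _)
  have hT : (ShortComplex.mk (kernel.ι w) w (kernel.condition w)).ShortExact :=
    { exact := ShortComplex.exact_kernel _ }
  refine ⟨fun i => ?_⟩
  rw [quasiIsoAt_iff_isIso_homologyMap]
  haveI : Mono (HomologicalComplex.homologyMap w i) := (hT.homology_exact₂ i).mono_g ((hk i).eq_of_src _ _)
  haveI : Epi (HomologicalComplex.homologyMap w i) :=
    (hT.homology_exact₃ i (i + 1) rfl).epi_f ((hk (i + 1)).eq_of_tgt _ _)
  exact isIso_of_mono_of_epi _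

theorem isZero_R_inj (K : CochainComplex A ℤ) (i : ℕ) (hi : 0 < i) (m : ℤ) :
    IsZero ((F.rightDerived i).obj ((inj K).X m)) := by
  obtain ⟨k, rfl⟩ : ∃ k, i = k + 1 := ⟨i - 1, by omega⟩
  exact F.isZero_rightDerived_obj_injective_succ k _

theorem isZero_nxt (K : CochainComplex A ℤ) (i : ℕ) (hi : 0 < i) (m : ℤ)
    (h : IsZero ((F.rightDerived (i + 1)).obj (K.X m))) : IsZero ((F.rightDerived i).obj ((nxt K).X m)) :=
  ((les F).exact₃ _ (ses_eval_shortExact K m) i (i + 1) rfl).isZero_of_both_zeros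
    ((isZero_R_inj F K i hi m).eq_of_src _ _) (h.eq_of_tgt _ _)

theorem acyclicObj_iter : ∀ (j : ℕ) (K : CochainComplex A ℤ),
    (∀ (m : ℤ) (i : ℕ), j < i → IsZero ((F.rightDerived i).obj (K.X m))) →
    ∀ (m : ℤ) (i : ℕ), 0 < i → IsZero ((F.rightDerived i).obj ((nxt^[j] K).X m))
  | 0, _, h => h
  | j + 1, K, h => acyclicObj_iter j (nxt K) fun m i hi => isZero_nxt F K i (by omega) m (h m (i + 1) (by omega))

theorem epi_dl (j : ℕ) (K : CochainComplex A ℤ) : Epi (dl F j K) :=
  haveI : ∀ m, Epi ((dl F j K).f m) := fun m =>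
    ((les F).exact₁ _ (ses_eval_shortExact K m) j (j + 1) rfl).epi_f
      ((isZero_R_inj F K (j + 1) (by omega) m).eq_of_tgt _ _)
  HomologicalComplex.epi_of_epi_f _ inferInstance

theorem isIso_dl (j : ℕ) (K : CochainComplex A ℤ) : IsIso (dl F (j + 1) K) := by
  haveI : ∀ m, IsIso ((dl F (j + 1) K).f m) := fun m => by
    haveI : Epi ((dl F (j + 1) K).f m) :=
      ((les F).exact₁ _ (ses_eval_shortExact K m) (j + 1) (j + 1 + 1) rfl).epi_f
        ((isZero_R_inj F K (j + 1 + 1) (by omega) m).eq_of_tgt _ _)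
    haveI : Mono ((dl F (j + 1) K).f m) :=
      ((les F).exact₃ _ (ses_eval_shortExact K m) (j + 1) (j + 1 + 1) rfl).mono_g
        ((isZero_R_inj F K (j + 1) (by omega) m).eq_of_src _ _)
    exact isIso_of_mono_of_epi _
  exact HomologicalComplex.Hom.isIso_of_components _

variable [PreservesFiniteLimits F]

theorem mono_R₀_ι (K : CochainComplex A ℤ) : Mono ((R F 0).map (ι K)) := by
  haveI : ∀ m, Mono (((R F 0).map (ι K)).f m) := fun m => by
    change Mono ((F.rightDerived 0).map ((ι K).f m))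
    rw [← NatIso.naturality_2 F.rightDerivedZeroIsoSelf ((ι K).f m)]
    infer_instance
  exact HomologicalComplex.mono_of_mono_f _ inferInstance

/-- For `K` with `RⁱF` of terms vanishing in degrees `i ≠ 0, j` and `R⁰F(K)` acyclic, `q` is a quasi-isomorphism. -/
theorem quasiIso_q_succ : ∀ (j : ℕ) (K : CochainComplex A ℤ),
    ((R F 0).obj K).Acyclic →
    (∀ (m : ℤ) (i : ℕ), 0 < i → i ≠ j + 1 → IsZero ((F.rightDerived i).obj (K.X m))) →
    QuasiIso (q F (j + 1) K)
  | 0, K, ha, _ => by
    haveI := epi_dl F 0 K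
    haveI := mono_R₀_ι F K
    have hv : (R F 0).map (cokernel.π (ι K)) ≫ dl F 0 K = 0 := by
      ext m; exact (les F).comp_δ _ (ses_eval_shortExact K m) 0 1 rfl
    haveI : QuasiIso (dl F 0 K) := quasiIso_of_acyclic ((R F 0).map (ι K)) ((R F 0).map (cokernel.π (ι K)))
      (dl F 0 K) (by rw [← Functor.map_comp, cokernel.condition, Functor.map_zero]) hv
      ((HomologicalComplex.exact_iff_degreewise_exact _).2 fun m => (les F).exact₂ _ (ses_eval_shortExact K m) 0)
      ((HomologicalComplex.exact_iff_degreewise_exact _).2 fun m => (les F).exact₃ _ (ses_eval_shortExact K m) 0 1 rfl)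
      ha (acyclic_inj K _)
    exact inferInstanceAs (QuasiIso (𝟙 _ ≫ dl F 0 K))
  | j + 1, K, ha, h => by
    haveI := isIso_dl F j K
    haveI := mono_R₀_ι F K
    have hex : (ShortComplex.mk ((R F 0).map (ι K)) ((R F 0).map (cokernel.π (ι K)))
        (by rw [← Functor.map_comp, cokernel.condition, Functor.map_zero])).ShortExact := by
      haveI : ∀ m, Epi (((R F 0).map (cokernel.π (ι K))).f m) := fun m =>
        ((les F).exact₃ _ (ses_eval_shortExact K m) 0 1 rfl).epi_f ((h m 1 one_pos (by omega)).eq_of_tgt _ _)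
      exact { exact := (HomologicalComplex.exact_iff_degreewise_exact _).2 fun m => (les F).exact₂ _ (ses_eval_shortExact K m) 0
              epi_g := HomologicalComplex.epi_of_epi_f _ inferInstance }
    haveI := quasiIso_q_succ j (nxt K) (hex.acyclic_X₃ ⟨fun i => (quasiIsoAt_iff_exactAt _ i (ha i)).2 (acyclic_inj K _ i)⟩)
      (fun m i hi hne => isZero_nxt F K i hi m (h m (i + 1) (by omega) (by omega)))
    exact inferInstanceAs (QuasiIso (q F (j + 1) (nxt K) ≫ dl F (j + 1) K))

end Groth.Agent.LGShift8
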